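import Cfsg.Agent.Lib.HNRec.Hom.Main
import Cfsg.Agent.Lib.HNRec.Normal.Defs

/-!
# The homomorphism from the normalised exchange
-/

set_option autoImplicit false
set_option maxRecDepth 100000

namespace CfsgLib.HNRec

open CfsgLib.HNxyz CfsgLib.HNIndex

variable {G : Type} [Group G] {t a b c n : G}

theorem dImg_ok : Hom.g1W = dWordOne ∧ Hom.g2W = dWordTwo ∧
    same dImgOne ([0] ++ Hom.g1W ++ [1]) = true ∧ same dImgTwo ([0] ++ Hom.g2W ++ [1]) = true := by
  decide +kernel

/-- A normalised exchange is exchange data for the charts. -/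
theorem NExchange.nData (K : Coord t a b c) (N : NExchange t a b c n) : Hom.NData t a b c n := by
  obtain ⟨e1, e2, s1, s2⟩ := dImg_ok
  have hn : n⁻¹ = n := inv_eq_of_mul_eq_one_right N.sq
  have i1 := eq_of_same K.rels s1
  have i2 := eq_of_same K.rels s2
  refine ⟨by rw [hn]; exact N.swap, ?_, ?_, ?_⟩
  · rw [hn, ← N.swap]
    calc n * (n * t * n) * n = (n * n) * t * (n * n) := by group
      _ = t := by rw [N.sq, one_mul, mul_one]
  · rw [← Hom.ev_shift Hom.g1W, hn, e1]
    exact N.img_one.trans (by rw [← e1]; exact i1)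
  · rw [← Hom.ev_shift Hom.g2W, hn, e2]
    exact N.img_two.trans (by rw [← e2]; exact i2)

/-- The coordinates with a normalised exchange come from the presented group. -/
theorem hom_of_nexchange (K : Coord t a b c) (N : NExchange t a b c n) :
    ∃ f : Cfsg.Spor.HN →* G, f gX = a ∧ f gY = b ∧ f gZ = c :=
  Hom.hom_of_exchange K (N.nData K)

/-- The homomorphism, given the normalisation of the exchange. -/
theorem homSpec_of_normal (hN : NormalSpec) : HomSpec := by
  intro G _ _ _ t a b c K E
  obtain ⟨n, N⟩ := hN G t a b c K E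
  exact hom_of_nexchange K N

end CfsgLib.HNRec
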