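import Cfsg.Agent.Lib.HNRec.Hom.Search

/-!
# The first search, checked
-/

set_option autoImplicit false
set_option maxRecDepth 100000

namespace CfsgLib.HNRec.Hom

theorem search_one : planOk s1EC s1Plan [] = true ∧
    (cands s1EC s1Plan [[]]).all (candOk s1TC s1We s1GC) = true := by
  decide +kernel

end CfsgLib.HNRec.Hom
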