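import Cfsg.Agent.Lib.HNRec.Hom.Words
import Cfsg.Agent.Lib.HNRec.Hom.SearchOne
import Cfsg.Agent.Lib.HNRec.Hom.SearchTwo

/-!
# The two charts

An element exchanging the involution with the third generator and normalising an alternating group
on eight letters gives two conjugates of the coordinates; in them the element of order five is found.
-/

set_option autoImplicit false
set_option maxRecDepth 100000

namespace CfsgLib.HNRec.Hom

open CfsgLib.HNxyz CfsgLib.HNIndex

variable {G : Type} [Group G] {t a b c n : G}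

/-- The exchange, normalised on the centraliser of both involutions. -/
structure NData (t a b c n : G) : Prop where
  nt : n * t * n⁻¹ = c
  nc : n * c * n⁻¹ = t
  ng1 : n * ev a b c g1W * n⁻¹ = a * ev a b c g1W * a⁻¹
  ng2 : n * ev a b c g2W * n⁻¹ = a * ev a b c g2W * a⁻¹

theorem ev_single_c : ev a b c [4] = c := by
  simp [ev, evalW, elt]

theorem ev_shift (w : List ℕ) : ev a b c ([0] ++ w ++ [1]) = a * ev a b c w * a⁻¹ := by
  simp [ev, evalW, elt, mul_assoc]

theorem ev_aa : ev a b c [0, 0] = a * a := by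
  simp [ev, evalW, elt]

theorem n_push (K : Coord t a b c) (N : NData t a b c n) (p : List ℕ) :
    cj n (ev a b c (ex srcW p)) = ev a b c (ex dstW p) := by
  refine push (cj n) ?_ p
  simp only [srcW, dstW, List.map_cons, List.map_nil, ev_shift, ev_t K, ev_single_c, cj_apply]
  rw [show n⁻¹ * t * n = c by rw [← N.nc]; group, show n⁻¹ * c * n = t by rw [← N.nt]; group,
    show n⁻¹ * (a * ev a b c g1W * a⁻¹) * n = ev a b c g1W by rw [← N.ng1]; group,
    show n⁻¹ * (a * ev a b c g2W * a⁻¹) * n = ev a b c g2W by rw [← N.ng2]; group]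

/-- A conjugation followed by the exchange. -/
theorem chain (K : Coord t a b c) (N : NData t a b c n) {e k p : List ℕ} (he : okW e = true)
    (h : same (HNIndex.invW e ++ k ++ e) (ex srcW p) = true) :
    cj (ev a b c e * n) (ev a b c k) = ev a b c (ex dstW p) := by
  rw [cj_mul, cj_ev he, ev_same K h, n_push K N]

theorem conj_t (K : Coord t a b c) {Z : G} {f : List ℕ}
    (h : Z = ev a b c f ∨ Z = ev a b c f * t) (w : List ℕ) :
    Z * ev a b c w * Z⁻¹ = ev a b c f * ev a b c w * (ev a b c f)⁻¹ := by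
  rcases h with h | h
  · rw [h]
  · rw [h]
    calc ev a b c f * t * ev a b c w * (ev a b c f * t)⁻¹
        = ev a b c f * (t * ev a b c w) * t⁻¹ * (ev a b c f)⁻¹ := by group
      _ = ev a b c f * ev a b c w * (ev a b c f)⁻¹ := by rw [t_comm K]; group

theorem map_eq_of {φ : G →* G} {S T : List (List ℕ)} {m : ℕ} (hS : S.length = m) (hT : T.length = m)
    (h : ∀ i < m, φ (ev a b c (S.getD i [])) = ev a b c (T.getD i [])) :
    S.map (fun w => φ (ev a b c w)) = T.map (ev a b c) := by
  refine List.ext_getElem (by simp [hS, hT]) fun i h1 h2 => ?_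
  simp only [List.length_map] at h1 h2
  have := h i (hS ▸ h1)
  rw [List.getD_eq_getElem _ _ h1, List.getD_eq_getElem _ _ h2] at this
  simpa only [List.getElem_map] using this

/-- The first chart. -/
theorem chart_one (K : Coord t a b c) (N : NData t a b c n) :
    ∃ g : G, kW.map (fun w => cj g (ev a b c w)) = kImg.map (ev a b c) ∧
      ∀ p : List ℕ, cj g (ev a b c (ex (conjExt kW s1E) p)) = ev a b c (ex (conjExt kImg peW) p) := by
  have h := oneOk_true
  simp only [oneOk, Bool.and_eq_true, List.all_eq_true, List.mem_range] at h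
  obtain ⟨⟨⟨⟨⟨⟨⟨⟨⟨⟨⟨⟨oh, od⟩, -⟩, osp⟩, ope⟩, oe⟩, -⟩, hr1⟩, hr2⟩, hre⟩, hk⟩, hsp⟩, -⟩ := h
  obtain ⟨lS, lT, -, -, hgood⟩ := lengths
  set g := ev a b c hW * n * (ev a b c dW * n) with hg
  have hmap : kW.map (fun w => cj g (ev a b c w)) = kImg.map (ev a b c) := by
    refine map_eq_of lS lT fun i hi => ?_
    obtain ⟨⟨⟨e1, e2⟩, e3⟩, -⟩ := hk i hi
    rw [hg, cj_mul, chain K N oh e1, chain K N od e2, ev_same K e3]
  have hr : cj g (ev a b c rW) = t := by
    rw [hg, cj_mul, chain K N oh hr1, chain K N od hr2]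
    exact ev_t K
  have he : cj g (ev a b c s1E) * t = t * cj g (ev a b c s1E) := by
    rw [← hr, ← map_mul, ← map_mul, ← ev_append, ← ev_append, ev_same K hre]
  obtain ⟨ok, hTC, hGC, hEC⟩ := stageOne_ok
  obtain ⟨C, hC, -, hcase⟩ := stage_spec K (cj g) hmap he ok hTC hGC hEC search_one
  rw [hgood] at hC
  simp only [List.mem_cons, List.not_mem_nil, or_false] at hC
  rcases hC with rfl | rfl
  · exact ⟨g, hmap, push _ (push_conjExt (cj g) oe ope hmap (conj_t K hcase))⟩
  · have hmap2 : kW.map (fun w => cj (g * ev a b c spW) (ev a b c w)) = kImg.map (ev a b c) := by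
      refine map_eq_of lS lT fun i hi => ?_
      obtain ⟨-, e4⟩ := hk i hi
      have hi' := congrArg (fun L => L.getD i (1 : G)) hmap
      simp only [List.getD_eq_getElem _ _ (show i < (kW.map fun w => cj g (ev a b c w)).length by
          rw [List.length_map, lS]; exact hi),
        List.getD_eq_getElem _ _ (show i < (kImg.map (ev a b c)).length by
          rw [List.length_map, lT]; exact hi), List.getElem_map] at hi'
      rw [cj_mul, List.getD_eq_getElem _ _ (by omega : i < kW.length), hi',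
        ← List.getD_eq_getElem _ [] (by omega : i < kImg.length), cj_ev osp, ev_same K e4]
    refine ⟨_, hmap2, push _ (push_conjExt _ oe ope hmap2 (conj_t K ?_))⟩
    rw [cj_mul]
    rw [← ev_same K hsp, ev_conj osp] at hcase
    rcases hcase with e | e
    · left
      rw [e, cj_apply]; group
    · right
      rw [e, cj_apply]
      calc (ev a b c spW)⁻¹ * (ev a b c spW * ev a b c peW * (ev a b c spW)⁻¹ * t) * ev a b c spW
          = ev a b c peW * ((ev a b c spW)⁻¹ * (t * ev a b c spW)) := by group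
        _ = ev a b c peW * t := by rw [t_comm K]; group

/-- The element of order five. -/
theorem exists_five (K : Coord t a b c) (N : NData t a b c n) :
    ∃ f : G, f ^ 5 = 1 ∧ a⁻¹ * f * a * f ^ 2 = 1 ∧ f⁻¹ * b⁻¹ * f * b = 1 ∧ (c * f) ^ 3 = 1 := by
  obtain ⟨g, hk, hpush⟩ := chart_one K N
  have h1 := oneOk_true
  simp only [oneOk, Bool.and_eq_true, List.all_eq_true, List.mem_range] at h1
  obtain ⟨⟨⟨⟨⟨⟨⟨⟨⟨⟨⟨⟨-, -⟩, -⟩, -⟩, -⟩, -⟩, opx⟩, -⟩, -⟩, -⟩, -⟩, -⟩, hfour⟩ := h1
  have img : ∀ i < 4, cj g (ev a b c (fourSrc.getD i [])) = ev a b c (fourImg.getD i []) := by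
    intro i hi
    obtain ⟨e1, e2⟩ := hfour i hi
    rw [← ev_same K e1, hpush, ev_same K e2]
  set f := g * ev a b c kapW * g⁻¹ with hf
  have hgf : cj g f = ev a b c kapW := by rw [hf, cj_apply]; group
  clear_value f
  have inj : Function.Injective (cj g) := (MulAut.conj g⁻¹).injective
  have ha : cj g a = ev a b c (fourImg.getD 0 []) := by
    rw [← img 0 (by norm_num)]; simp [fourSrc, ev, evalW, elt]
  have hc : cj g c = ev a b c (fourImg.getD 1 []) := by
    rw [← img 1 (by norm_num)]; simp [fourSrc, ev, evalW, elt]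
  have h5 := fiveOk_true
  simp only [fiveOk, Bool.and_eq_true] at h5
  obtain ⟨⟨w5, wa⟩, wc⟩ := h5
  refine ⟨f, inj ?_, inj ?_, ?_, inj ?_⟩
  · rw [map_pow, hgf, map_one]
    refine Eq.trans ?_ ((ev_same K w5).trans (evalW_nil _))
    simp only [ev_append, pow_succ, pow_zero, one_mul]
  · rw [map_mul, map_mul, map_mul, map_pow, map_inv, hgf, ha, map_one]
    refine Eq.trans ?_ ((ev_same K wa).trans (evalW_nil _))
    simp only [ev_append, ev_invW opx, pow_two, mul_assoc]
  · have h2 := twoOk_true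
    simp only [twoOk, Bool.and_eq_true, List.all_eq_true, List.mem_range] at h2
    obtain ⟨⟨⟨⟨⟨⟨⟨⟨ohu, oe⟩, hu⟩, hl⟩, hkap⟩, hkap'⟩, he2⟩, hb⟩, hcomm⟩ := h2
    set gu := g * (ev a b c huW * n) with hgu
    have hbbb : cj gu (ev a b c [2, 2, 2]) = t := by
      have e := img 2 (by norm_num)
      simp only [fourSrc, List.getD_cons_succ, List.getD_cons_zero] at e
      rw [hgu, cj_mul, e, chain K N ohu hu]
      exact ev_t K
    obtain ⟨-, -, lS, lT, -⟩ := lengths
    have hmap : lW.map (fun w => cj gu (ev a b c w)) = lImg.map (ev a b c) := by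
      refine map_eq_of lS lT fun i hi => ?_
      obtain ⟨⟨⟨e1, e2⟩, e3⟩, e4⟩ := hl i hi
      rw [hgu, cj_mul, ← ev_same K e1, hpush, ev_same K e2, chain K N ohu e3, ev_same K e4]
    have hfu : cj gu f = ev a b c kapU := by
      rw [hgu, cj_mul, hgf, chain K N ohu hkap, ev_same K hkap']
    have he : cj gu (ev a b c s2E) * t = t * cj gu (ev a b c s2E) := by
      rw [← hbbb, ← map_mul, ← map_mul, ← ev_append, ← ev_append, ev_same K he2]
    obtain ⟨ok, hTC, hGC, hEC⟩ := stageTwo_ok
    obtain ⟨C, hC, okC, hcase⟩ := stage_spec K (cj gu) hmap he ok hTC hGC hEC search_two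
    have hy : cj gu b = ev a b c (ex (conjExt lImg C) bW) := by
      rw [← push _ (push_conjExt (cj gu) oe okC hmap (conj_t K hcase)), ← ev_same K hb]
      simp [ev, evalW, elt]
    have hfb : f * b = b * f := by
      refine (MulAut.conj gu⁻¹).injective ?_
      show cj gu (f * b) = cj gu (b * f)
      rw [map_mul, map_mul, hfu, hy, ← ev_append, ← ev_append]
      exact (ev_same K (hcomm C hC)).symm
    calc f⁻¹ * b⁻¹ * f * b = f⁻¹ * b⁻¹ * (f * b) := by group
      _ = 1 := by rw [hfb]; group
  · rw [map_pow, map_mul, hgf, hc, map_one]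
    refine Eq.trans ?_ ((ev_same K wc).trans (evalW_nil _))
    simp only [ev_append, pow_succ, pow_zero, one_mul, mul_assoc]

end CfsgLib.HNRec.Hom
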