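import Cfsg.Agent.Lib.HNRec.Basic
import Cfsg.Agent.Lib.HNIndex.Rules

/-!
# Words in the centraliser of an involution

Elements of the centraliser are words in the three generators; two words with the same permutation
of a hundred points differ at most by the central involution.
-/

set_option autoImplicit false
set_option maxRecDepth 100000
set_option linter.style.haveILetI false

namespace CfsgLib.HNRec.Hom

open CfsgLib.HNxyz CfsgLib.HNIndex CfsgLib.Golay

/-- The word of a list of indices. -/
def ex (S : List (List ℕ)) (p : List ℕ) : List ℕ := p.flatMap fun i => S.getD i []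

/-- A list of words with its conjugates. -/
def conjExt (S : List (List ℕ)) (e : List ℕ) : List (List ℕ) :=
  S ++ S.map fun s => e ++ s ++ HNIndex.invW e

theorem ex_cons (S : List (List ℕ)) (i : ℕ) (p : List ℕ) : ex S (i :: p) = S.getD i [] ++ ex S p :=
  rfl

/-- All letters are among the six. -/
def okW (w : List ℕ) : Bool := w.all fun g => Nat.blt g 6

theorem okW_iff {w : List ℕ} : okW w = true ↔ ∀ g ∈ w, g < 6 := by
  simp [okW]

theorem okW_append {u v : List ℕ} (hu : okW u = true) (hv : okW v = true) : okW (u ++ v) = true := by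
  simp only [okW] at hu hv ⊢
  rw [List.all_append, hu, hv]
  rfl

theorem okW_invW {w : List ℕ} (h : okW w = true) : okW (HNIndex.invW w) = true := by
  rw [okW_iff] at h ⊢
  intro g hg
  simp only [HNIndex.invW, List.mem_map, List.mem_reverse] at hg
  obtain ⟨x, hx, rfl⟩ := hg
  exact xor_lt (h x hx)

variable {G : Type} [Group G] {t a b c : G}

/-- The element of a word. -/
abbrev ev (a b c : G) (w : List ℕ) : G := evalW (elt a b c) w

/-- The permutation of a word. -/
noncomputable abbrev pm (w : List ℕ) : Equiv.Perm (Fin 100) := evalW (elt px py pz) w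

/-- Conjugation into the coordinates of a chart. -/
def cj (g : G) : G →* G := (MulAut.conj g⁻¹).toMonoidHom

theorem cj_apply (g x : G) : cj g x = g⁻¹ * x * g := by
  simp [cj]

theorem cj_mul (g h x : G) : cj (g * h) x = cj h (cj g x) := by
  simp only [cj_apply, mul_inv_rev, mul_assoc]

theorem ev_append (u v : List ℕ) : ev a b c (u ++ v) = ev a b c u * ev a b c v := evalW_append _ u v

theorem ev_invW {w : List ℕ} (h : okW w = true) : ev a b c (HNIndex.invW w) = (ev a b c w)⁻¹ :=
  evalW_invW a b c (okW_iff.1 (okW_invW h))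

theorem ev_conj {e : List ℕ} (he : okW e = true) (s : List ℕ) :
    ev a b c (e ++ s ++ HNIndex.invW e) = ev a b c e * ev a b c s * (ev a b c e)⁻¹ := by
  rw [ev_append, ev_append, ev_invW he]

theorem cj_ev {e : List ℕ} (he : okW e = true) (s : List ℕ) :
    cj (ev a b c e) (ev a b c s) = ev a b c (HNIndex.invW e ++ s ++ e) := by
  rw [cj_apply, ev_append, ev_append, ev_invW he]

/-- A homomorphism matching two lists of words matches their products. -/
theorem push (φ : G →* G) {S T : List (List ℕ)}
    (h : S.map (fun w => φ (ev a b c w)) = T.map (ev a b c)) :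
    ∀ p : List ℕ, φ (ev a b c (ex S p)) = ev a b c (ex T p)
  | [] => map_one φ
  | i :: p => by
    rw [ex_cons, ex_cons, ev_append, ev_append, map_mul, push φ h p]
    congr 1
    have hd := congrArg (fun L => L.getD i (1 : G)) h
    have e1 := List.getD_map (l := S) (n := i) (d := ([] : List ℕ)) (fun w => φ (ev a b c w))
    have e2 := List.getD_map (l := T) (n := i) (d := ([] : List ℕ)) (ev a b c)
    simp only [evalW_nil, map_one] at e1 e2
    exact e1.symm.trans (hd.trans e2)

theorem push_conjExt (φ : G →* G) {S T : List (List ℕ)} {e f : List ℕ}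
    (he : okW e = true) (hf : okW f = true)
    (h : S.map (fun w => φ (ev a b c w)) = T.map (ev a b c))
    (hc : ∀ w, φ (ev a b c e) * ev a b c w * (φ (ev a b c e))⁻¹ =
      ev a b c f * ev a b c w * (ev a b c f)⁻¹) :
    (conjExt S e).map (fun w => φ (ev a b c w)) = (conjExt T f).map (ev a b c) := by
  simp only [conjExt, List.map_append, List.map_map, h]
  congr 1
  have hl : S.length = T.length := by simpa using congrArg List.length h
  refine List.ext_getElem (by simpa using hl) fun i h1 h2 => ?_
  simp only [List.length_map] at h1 h2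
  simp only [List.getElem_map, Function.comp_apply]
  have hi : φ (ev a b c S[i]) = ev a b c T[i] := by
    have := List.getElem_of_eq h (i := i) (by simpa using h1)
    simpa using this
  rw [ev_conj he, ev_conj hf, map_mul, map_mul, map_inv, hi, hc]

section coords

variable (K : Coord t a b c)
include K

theorem ev_same {u v : List ℕ} (e : same u v = true) : ev a b c u = ev a b c v :=
  eq_of_same K.rels e

theorem ev_t : ev a b c [0, 0] = t := by
  rw [ev, evalW_cons, evalW_cons, evalW_nil, mul_one]
  exact K.sq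

theorem exists_ev {g : G} (hg : g * t = t * g) : ∃ w, okW w = true ∧ g = ev a b c w := by
  have hm : g ∈ Subgroup.closure ({a, b, c} : Set G) :=
    K.cent ▸ Subgroup.mem_centralizer_singleton_iff.2 hg
  clear hg
  induction hm using Subgroup.closure_induction with
  | mem x hx =>
    rcases hx with rfl | rfl | rfl
    exacts [⟨[0], rfl, by simp [ev, evalW, elt]⟩, ⟨[2], rfl, by simp [ev, evalW, elt]⟩,
      ⟨[4], rfl, by simp [ev, evalW, elt]⟩]
  | one => exact ⟨[], rfl, rfl⟩
  | mul x y _ _ ex ey =>
    obtain ⟨u, hu, rfl⟩ := ex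
    obtain ⟨v, hv, rfl⟩ := ey
    exact ⟨u ++ v, okW_append hu hv, (ev_append u v).symm⟩
  | inv x _ ex =>
    obtain ⟨u, hu, rfl⟩ := ex
    exact ⟨HNIndex.invW u, okW_invW hu, (ev_invW hu).symm⟩

theorem t_comm (w : List ℕ) : t * ev a b c w = ev a b c w * t := by
  have hle : Subgroup.closure ({a, b, c} : Set G) ≤ Subgroup.centralizer {t} := K.cent.symm.le
  have helt : ∀ g, elt a b c g ∈ Subgroup.closure ({a, b, c} : Set G) := by
    intro g
    rcases g with _ | _ | _ | _ | _ | _ | g
    exacts [Subgroup.subset_closure (Or.inl rfl), inv_mem (Subgroup.subset_closure (Or.inl rfl)),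
      Subgroup.subset_closure (Or.inr (Or.inl rfl)),
      inv_mem (Subgroup.subset_closure (Or.inr (Or.inl rfl))),
      Subgroup.subset_closure (Or.inr (Or.inr rfl)),
      inv_mem (Subgroup.subset_closure (Or.inr (Or.inr rfl))), one_mem _]
  refine (Subgroup.mem_centralizer_singleton_iff.1 (hle (Subgroup.list_prod_mem _ ?_))).symm
  intro m hm
  obtain ⟨g, -, rfl⟩ := List.mem_map.1 hm
  exact helt g

theorem ker_ph {m : Mg a b c} (h : ph a b c m = 1) : m = 1 ∨ m = mA a b c * mA a b c := by
  obtain ⟨h2, hmem⟩ := (mData K.rels).ker_eq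
  set D := mData K.rels with hD
  let u : D.σ.ker := ⟨⟨D.a * D.a, D.ker_le_N hmem⟩, D.mem_ker_σ.2 hmem⟩
  let v : D.σ.ker := ⟨⟨m, D.ker_le_N h⟩, D.mem_ker_σ.2 h⟩
  by_contra hne
  push Not at hne
  have hu : u ≠ 1 := fun e => D.sq_ne (congrArg (fun w : D.σ.ker => w.1.1) e)
  have hv : v ≠ 1 := fun e => hne.1 (congrArg (fun w : D.σ.ker => w.1.1) e)
  have huv : v ≠ u := fun e => hne.2 (congrArg (fun w : D.σ.ker => w.1.1) e)
  haveI := m_finite K.rels
  have h3 : ({v, u, 1} : Set D.σ.ker).ncard = 3 := by
    rw [Set.ncard_eq_three]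
    exact ⟨v, u, 1, huv, hv, hu, rfl⟩
  have := Set.ncard_le_card ({v, u, 1} : Set D.σ.ker)
  omega

theorem pr_aa : pr a b c (mA a b c * mA a b c) = t := by
  rw [map_mul]
  exact K.sq

theorem pr_inj : Function.Injective (pr a b c) := by
  refine (mData K.rels).injective (pr a b c) ?_ ?_
  · exact fun e => K.ne ((pr_aa K).symm.trans e)
  rw [eq_bot_iff]
  intro m hm
  obtain ⟨h1, h2⟩ := Subgroup.mem_inf.1 hm
  rcases ker_ph K (MonoidHom.mem_ker.1 h1) with e | e
  · exact e ▸ one_mem _
  · rw [e, MonoidHom.mem_ker, pr_aa K] at h2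
    exact absurd h2 K.ne

omit K in
theorem ph_mW (w : List ℕ) : ph a b c (mW a b c w) = pm w :=
  map_evalW (ph a b c) _ _ _ w

theorem pm_eq_of_ev {u v : List ℕ} (h : ev a b c u = ev a b c v) : pm u = pm v := by
  have e : mW a b c u = mW a b c v := pr_inj K ((pr_mW u).trans (h.trans (pr_mW v).symm))
  exact (ph_mW u).symm.trans ((congrArg (ph a b c) e).trans (ph_mW v))

theorem ev_of_pm {u v : List ℕ} (h : pm u = pm v) :
    ev a b c u = ev a b c v ∨ ev a b c u = ev a b c v * t := by
  have hk : ph a b c ((mW a b c v)⁻¹ * mW a b c u) = 1 := by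
    rw [map_mul, map_inv, ph_mW, ph_mW, h, inv_mul_cancel]
  have e := congrArg (pr a b c) (mul_inv_cancel_left (mW a b c v) (mW a b c u))
  rw [map_mul, pr_mW, pr_mW] at e
  rcases ker_ph K hk with k | k
  · left
    rw [k, map_one, mul_one] at e
    exact e.symm
  · right
    rw [k, pr_aa K] at e
    exact e.symm

end coords

theorem pm_mem (w : List ℕ) : pm w ∈ HS.graphAut := by
  obtain ⟨hx, hy, hz⟩ := mem_graph
  refine Subgroup.list_prod_mem _ fun m hm => ?_
  obtain ⟨g, -, rfl⟩ := List.mem_map.1 hm
  rcases g with _ | _ | _ | _ | _ | _ | g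
  exacts [hx, inv_mem hx, hy, inv_mem hy, hz, inv_mem hz, one_mem _]

end CfsgLib.HNRec.Hom
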