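import Cfsg.Agent.Lib.HNRec.Hom.Charts
import Cfsg.Agent.Lib.HNRec.Spec
import Cfsg.Agent.Lib.HNxyz.Rep

/-!
# The presented group maps onto the subgroup with the given coordinates
-/

set_option autoImplicit false
set_option maxRecDepth 100000

namespace CfsgLib.HNRec.Hom

open CfsgLib.HNxyz
open Cfsg.Spor (HN)

variable {G : Type} [Group G] {t a b c n : G}

/-- The images of the four generators. -/
def genImg (a b c f : G) : HN.Gen → G
  | .x => a
  | .y => b
  | .z => c
  | .t => f

theorem genImg_word (a b c f : G) (L : List (HN.Gen × Bool)) (hL : ∀ g ∈ L.map sylLetter, g < 6) :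
    FreeGroup.lift (genImg a b c f) (FreeGroup.mk L) = evalW (elt a b c) (L.map sylLetter) := by
  induction L with
  | nil => rw [← FreeGroup.one_eq_mk, map_one]; rfl
  | cons p L ih =>
    obtain ⟨x, s⟩ := p
    rw [show FreeGroup.mk ((x, s) :: L) = FreeGroup.mk [(x, s)] * FreeGroup.mk L from rfl, map_mul,
      ih (fun g hg => hL g (List.mem_cons_of_mem _ hg)), List.map_cons, evalW_cons]
    congr 1
    have hlt := hL (sylLetter (x, s)) List.mem_cons_self
    cases s
    · rw [show FreeGroup.mk [(x, false)] = (FreeGroup.of x)⁻¹ from rfl, map_inv,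
        FreeGroup.lift_apply_of]
      cases x <;> first | rfl | simp [sylLetter, genLetter, invLetter] at hlt
    · rw [show FreeGroup.mk [(x, true)] = FreeGroup.of x from rfl, FreeGroup.lift_apply_of]
      cases x <;> first | rfl | simp [sylLetter, genLetter] at hlt

theorem extra_cases : HN.extra = HN.extra.take 10 ++ [HN.t ^ 5, (HN.x⁻¹ * HN.t * HN.x) * (HN.t ^ 2),
    HN.t⁻¹ * HN.y⁻¹ * HN.t * HN.y, (HN.z * HN.t) ^ 3] := rfl

/-- The coordinates with a normalised exchange come from the presented group. -/
theorem hom_of_exchange (K : Coord t a b c) (N : NData t a b c n) :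
    ∃ f : Cfsg.Spor.HN →* G, f gX = a ∧ f gY = b ∧ f gZ = c := by
  obtain ⟨f, f5, fa, fb, fc⟩ := exists_five K N
  have hrels : ∀ r ∈ Cfsg.Spor.coxRelators HN.edges ∪ {r | r ∈ HN.extra},
      FreeGroup.lift (genImg a b c f) r = 1 := by
    rintro r (⟨x, hx, -⟩ | hr)
    · exact absurd hx (by simp [Cfsg.Spor.coxNodes, HN.edges])
    rw [Set.mem_setOf_eq, extra_cases, List.mem_append] at hr
    rcases hr with hr | hr
    · have hmem : r.toWord.map sylLetter ∈ xyzRels := by
        rw [← hn_words.1]
        exact List.mem_map.2 ⟨r, hr, rfl⟩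
      have hlt : ∀ g ∈ r.toWord.map sylLetter, g < 6 := by
        have hall : (xyzRels.all fun v => v.all fun g => Nat.blt g 6) = true := by decide +kernel
        intro g hg
        exact Nat.ble_eq.mp (List.all_eq_true.1 (List.all_eq_true.1 hall _ hmem) g hg)
      rw [← FreeGroup.mk_toWord (x := r), genImg_word a b c f r.toWord hlt]
      exact K.rels _ hmem
    · simp only [List.mem_cons, List.not_mem_nil, or_false] at hr
      rcases hr with rfl | rfl | rfl | rfl <;>
        simp only [HN.x, HN.y, HN.z, HN.t, map_mul, map_inv, map_pow, FreeGroup.lift_apply_of,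
          genImg]
      exacts [f5, fa, fb, fc]
  exact ⟨PresentedGroup.toGroup hrels, PresentedGroup.toGroup.of _, PresentedGroup.toGroup.of _,
    PresentedGroup.toGroup.of _⟩

end CfsgLib.HNRec.Hom
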