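import Cfsg.Agent.Lib.HNRec.Hom.Data
import Cfsg.Agent.Lib.HNRec.Hom.Eval
import Cfsg.Agent.Lib.HNOut.Graph

/-!
# The automorphisms of the graph conjugating one list of permutations to another

A search over an order of the points: a point is either free or forced by an earlier one; a value is
kept if the adjacency to all earlier points is right.
-/

set_option autoImplicit false
set_option maxRecDepth 100000

namespace CfsgLib.HNRec.Hom

open CfsgLib.HNxyz CfsgLib.Golay

/-- Adjacency, read from the matrix. -/
def adjB (i j : ℕ) : Bool := adjBig.testBit (i * 100 + j)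

theorem adjB_checks :
    ((List.range 100).all fun i => (List.range 100).all fun j => adjB i j == HS.adjN i j) = true := by
  decide +kernel

theorem adjB_eq {i j : ℕ} (hi : i < 100) (hj : j < 100) : adjB i j = HS.adjN i j :=
  beq_iff_eq.1
    (List.all_eq_true.1 (List.all_eq_true.1 adjB_checks i (List.mem_range.2 hi)) j (List.mem_range.2 hj))

/-- The value of a point. -/
def valOf : List (ℕ × ℕ) → ℕ → ℕ
  | [], _ => 0
  | qw :: r, j => if Nat.beq qw.1 j then qw.2 else valOf r j

/-- The point with a given value. -/
def argOf : List (ℕ × ℕ) → ℕ → ℕ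
  | [], _ => 0
  | qw :: r, j => if Nat.beq qw.2 j then qw.1 else argOf r j

/-- A value agrees with the earlier ones. -/
def fits (pa : List (ℕ × ℕ)) (j v : ℕ) : Bool :=
  pa.all fun qw => !Nat.beq v qw.2 && (adjB j qw.1 == adjB v qw.2)

/-- The values tried at a point. -/
noncomputable def trials (code : List (ℕ × ℕ)) (x : ℕ × Option (ℕ × ℕ)) (pa : List (ℕ × ℕ)) :
    List ℕ :=
  match x.2 with
  | none => List.range 100
  | some qk => [PackPerm.getP (code.getD qk.2 (0, 0)).2 (valOf pa qk.1)]

/-- The extensions of a partial map by one point. -/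
noncomputable def extend (code : List (ℕ × ℕ)) (x : ℕ × Option (ℕ × ℕ)) (pa : List (ℕ × ℕ)) :
    List (List (ℕ × ℕ)) :=
  ((trials code x pa).filter (fits pa x.1)).map fun v => (x.1, v) :: pa

/-- All maps agreeing with the data along an order of the points. -/
noncomputable def cands (code : List (ℕ × ℕ)) :
    List (ℕ × Option (ℕ × ℕ)) → List (List (ℕ × ℕ)) → List (List (ℕ × ℕ))
  | [], L => L
  | x :: r, L => cands code r (L.flatMap (extend code x))

/-- The order is admissible. -/
noncomputable def planOk (code : List (ℕ × ℕ)) : List (ℕ × Option (ℕ × ℕ)) → List ℕ → Bool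
  | [], prior => (List.range 100).all prior.contains
  | x :: r, prior => Nat.blt x.1 100 && !prior.contains x.1 &&
      (match x.2 with
      | none => true
      | some qk => prior.contains qk.1 && Nat.blt qk.2 code.length &&
          Nat.beq (PackPerm.getP (code.getD qk.2 (0, 0)).1 qk.1) x.1) &&
      planOk code r (x.1 :: prior)

theorem valOf_map (F : ℕ → ℕ) : ∀ {l : List ℕ} {j : ℕ}, j ∈ l → valOf (l.map fun q => (q, F q)) j = F j
  | [], _, h => absurd h List.not_mem_nil
  | q :: l, j, h => by
    rw [List.map_cons, valOf]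
    by_cases e : q = j
    · subst e; simp
    · rw [if_neg (by simpa using e)]
      exact valOf_map F ((List.mem_cons.1 h).resolve_left (Ne.symm e))

theorem argOf_map (F : ℕ → ℕ) : ∀ {l : List ℕ} {j : ℕ}, (∀ q ∈ l, F q = F j → q = j) → j ∈ l →
    argOf (l.map fun q => (q, F q)) (F j) = j
  | [], _, _, h => absurd h List.not_mem_nil
  | q :: l, j, hi, h => by
    rw [List.map_cons, argOf]
    by_cases e : q = j
    · subst e; simp
    · rw [if_neg (by simpa using fun h' => e (hi q List.mem_cons_self h'))]
      exact argOf_map F (fun r hr => hi r (List.mem_cons_of_mem _ hr))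
        ((List.mem_cons.1 h).resolve_left (Ne.symm e))

/-- The search finds every automorphism with the given conjugations. -/
theorem cands_complete {code : List (ℕ × ℕ)} {P : Equiv.Perm (Fin 100)} {F : ℕ → ℕ}
    (hF : ∀ i : Fin 100, F i = (P i).val) (hP : P ∈ HS.graphAut)
    (hc : ∀ k < code.length, ∀ i : Fin 100,
      F (PackPerm.getP (code.getD k (0, 0)).1 i) = PackPerm.getP (code.getD k (0, 0)).2 (F i)) :
    ∀ (r : List (ℕ × Option (ℕ × ℕ))) (prior : List ℕ) (L : List (List (ℕ × ℕ))),
      planOk code r prior = true → (∀ q ∈ prior, q < 100) → prior.map (fun q => (q, F q)) ∈ L →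
      ∃ all : List ℕ, (∀ q < 100, q ∈ all) ∧ (∀ q ∈ all, q < 100) ∧
        all.map (fun q => (q, F q)) ∈ cands code r L
  | [], prior, L, ho, hlt, hm => by
    simp only [planOk, List.all_eq_true, List.mem_range, List.contains_iff_mem] at ho
    exact ⟨prior, ho, hlt, hm⟩
  | x :: r, prior, L, ho, hlt, hm => by
    simp only [planOk, Bool.and_eq_true, Bool.not_eq_true', Nat.blt_eq] at ho
    obtain ⟨⟨⟨hx, hn⟩, hp⟩, hr⟩ := ho
    refine cands_complete hF hP hc r (x.1 :: prior) _ hr ?_ ?_
    · rintro q (_ | ⟨_, hq⟩)
      exacts [hx, hlt q hq]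
    rw [List.mem_flatMap]
    refine ⟨_, hm, ?_⟩
    rw [extend, List.mem_map]
    refine ⟨F x.1, ?_, rfl⟩
    rw [List.mem_filter]
    constructor
    · rcases hxo : x.2 with _ | qk
      · simp only [trials, hxo]
        rw [List.mem_range, show F x.1 = _ from hF ⟨x.1, hx⟩]
        exact (P ⟨x.1, hx⟩).isLt
      · simp only [hxo, Bool.and_eq_true, List.contains_iff_mem, Nat.blt_eq, Nat.beq_eq] at hp
        obtain ⟨⟨hq, hk⟩, he⟩ := hp
        simp only [trials, hxo, List.mem_singleton]
        rw [valOf_map F hq, ← hc qk.2 hk ⟨qk.1, hlt _ hq⟩, he]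
    · simp only [fits, List.all_eq_true, List.mem_map]
      rintro _ ⟨q, hq, rfl⟩
      have hne : x.1 ≠ q := fun e => by
        rw [e, ← Bool.not_eq_true, List.contains_iff_mem] at hn
        exact hn hq
      have h1 : F x.1 = _ := hF ⟨x.1, hx⟩
      have h2 : F q = _ := hF ⟨q, hlt q hq⟩
      simp only [Bool.and_eq_true, Bool.not_eq_true', beq_iff_eq]
      constructor
      · rw [← Bool.not_eq_true, Nat.beq_eq, h1, h2]
        exact fun e => hne (congrArg Fin.val (P.injective (Fin.ext e)))
      · rw [h1, h2, adjB_eq hx (hlt q hq), adjB_eq (Fin.isLt _) (Fin.isLt _)]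
        exact (hP ⟨x.1, hx⟩ ⟨q, hlt q hq⟩).symm

/-- The image of a point under the word in the permutations and their conjugates. -/
noncomputable def appW (T : List ℕ) (pa : List (ℕ × ℕ)) : List ℕ → ℕ → ℕ
  | [], i => i
  | k :: w, i =>
    let j := appW T pa w i
    if Nat.blt k T.length then PackPerm.getP (T.getD k 0) j
    else valOf pa (PackPerm.getP (T.getD (k - T.length) 0) (argOf pa j))

/-- A candidate is one of the listed permutations or fails the word. -/
noncomputable def candOk (T : List ℕ) (we : List ℕ) (good : List ℕ) (pa : List (ℕ × ℕ)) : Bool :=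
  (good.any fun C => pa.all fun qw => Nat.beq (PackPerm.getP C qw.1) qw.2) ||
    (List.range 100).any fun i => !Nat.beq (appW T pa we i) (valOf pa i)

end CfsgLib.HNRec.Hom
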