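import Cfsg.Agent.Lib.HNRec.Hom.Search

/-!
# The image of one element in a chart

An element commuting with the involution whose action on a few words is known is one of the listed
candidates, up to the central involution.
-/

set_option autoImplicit false
set_option maxRecDepth 100000

namespace CfsgLib.HNRec.Hom

open CfsgLib.HNxyz CfsgLib.HNIndex CfsgLib.Golay

theorem pm_val {w : List ℕ} (hw : okW w = true) (i : Fin 100) :
    (pm w i).val = PackPerm.getP (codeW w) i.val :=
  HNOut.app_spec (okW_iff.1 hw) i

/-- The words of a stage are as the search reads them. -/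
def stageOk (S T : List (List ℕ)) (e : List ℕ) (eqs : List (List ℕ × List ℕ)) (we : List ℕ)
    (good : List (List ℕ)) : Bool :=
  okW e && T.all okW && good.all okW && we.all (fun k => Nat.blt k (T.length + T.length)) &&
    (eqs.all fun pq => okW (ex T pq.1) && okW (ex T pq.2) &&
      same (e ++ ex S pq.1) (ex S pq.2 ++ e)) &&
    same e (ex (conjExt S e) we)

variable {G : Type} [Group G] {t a b c : G}

theorem appW_spec {T : List (List ℕ)} (hT : T.all okW = true) {wE : List ℕ} (hE : okW wE = true)
    {F : ℕ → ℕ} (hF : ∀ i : Fin 100, F i = (pm wE i).val) {all : List ℕ}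
    (hcov : ∀ q < 100, q ∈ all) (hlt : ∀ q ∈ all, q < 100) :
    ∀ (w : List ℕ), (∀ k ∈ w, k < T.length + T.length) → ∀ i : Fin 100,
      appW (T.map codeW) (all.map fun q => (q, F q)) w i.val = (pm (ex (conjExt T wE) w) i).val
  | [], _, i => rfl
  | k :: w, hw, i => by
    have ih := appW_spec hT hE hF hcov hlt w (fun x hx => hw x (List.mem_cons_of_mem _ hx)) i
    have hk := hw k List.mem_cons_self
    simp only [appW, List.length_map, ih]
    set j := pm (ex (conjExt T wE) w) i with hj
    have hj' : evalW (elt px py pz) (ex (conjExt T wE) w) i = j := hj.symm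
    have e0 : pm (ex (conjExt T wE) (k :: w)) i = pm ((conjExt T wE).getD k []) j := by
      rw [pm, ex_cons, evalW_append, Equiv.Perm.mul_apply]
    rw [e0]
    have hcode : ∀ m < T.length,
        (T.map codeW).getD m 0 = codeW T[m]! ∧ okW T[m]! = true ∧ T.getD m [] = T[m]! := by
      intro m hm
      rw [getElem!_pos T m hm]
      refine ⟨?_, List.all_eq_true.1 hT _ (List.getElem_mem hm), List.getD_eq_getElem _ _ hm⟩
      rw [List.getD_eq_getElem _ _ (by simpa using hm), List.getElem_map]
    by_cases h : k < T.length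
    · obtain ⟨c1, c2, c3⟩ := hcode k h
      rw [if_pos (Nat.blt_eq.mpr h), c1, ← pm_val c2, conjExt, List.getD_append _ _ _ _ h, c3]
    · obtain ⟨c1, c2, c3⟩ := hcode (k - T.length) (by omega)
      rw [if_neg (by simpa using h), c1]
      have e1 : (conjExt T wE).getD k [] = wE ++ T[k - T.length]! ++ HNIndex.invW wE := by
        rw [conjExt, List.getD_append_right _ _ _ _ (by omega),
          List.getD_eq_getElem _ _ (by rw [List.length_map]; omega), List.getElem_map,
          getElem!_pos T (k - T.length) (by omega)]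
      rw [e1, pm, evalW_append, evalW_append, evalW_invW _ _ _ (okW_iff.1 (okW_invW hE)),
        Equiv.Perm.mul_apply, Equiv.Perm.mul_apply]
      set x := (pm wE)⁻¹ j with hx
      have hxj : F x.val = j.val := by rw [hF x, hx]; simp
      have ha : argOf (all.map fun q => (q, F q)) j.val = x.val := by
        rw [← hxj]
        refine argOf_map F (fun q hq h' => ?_) (hcov _ x.isLt)
        rw [hF ⟨q, hlt q hq⟩, hF x] at h'
        exact congrArg Fin.val ((pm wE).injective (Fin.ext h'))
      rw [ha, ← pm_val c2, valOf_map F (hcov _ (Fin.isLt _)), hF]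

/-- The image of the element is a listed candidate, up to the central involution. -/
theorem stage_spec (K : Coord t a b c) (φ : G →* G) {S T : List (List ℕ)} {e : List ℕ}
    {eqs : List (List ℕ × List ℕ)} {we : List ℕ} {good : List (List ℕ)} {TC GC : List ℕ}
    {EC : List (ℕ × ℕ)} {plan : List (ℕ × Option (ℕ × ℕ))}
    (hφ : S.map (fun w => φ (ev a b c w)) = T.map (ev a b c))
    (he : φ (ev a b c e) * t = t * φ (ev a b c e))
    (ok : stageOk S T e eqs we good = true) (hTC : T.map codeW = TC) (hGC : good.map codeW = GC)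
    (hEC : eqs.map (fun pq => (codeW (ex T pq.1), codeW (ex T pq.2))) = EC)
    (srch : planOk EC plan [] = true ∧ (cands EC plan [[]]).all (candOk TC we GC) = true) :
    ∃ C ∈ good, okW C = true ∧
      (φ (ev a b c e) = ev a b c C ∨ φ (ev a b c e) = ev a b c C * t) := by
  simp only [stageOk, Bool.and_eq_true, List.all_eq_true] at ok
  obtain ⟨⟨⟨⟨⟨oe, oT⟩, og⟩, owe⟩, oeq⟩, osame⟩ := ok
  obtain ⟨wE, hE, eE⟩ := exists_ev K he
  let F : ℕ → ℕ := fun i => (pm wE (Fin.ofNat 100 i)).val
  have hF : ∀ i : Fin 100, F i = (pm wE i).val := fun i => by simp [F]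
  subst hTC hGC hEC
  obtain ⟨hplan, hall⟩ := srch
  have hc : ∀ k < (eqs.map fun pq => (codeW (ex T pq.1), codeW (ex T pq.2))).length, ∀ i : Fin 100,
      F (PackPerm.getP ((eqs.map fun pq => (codeW (ex T pq.1), codeW (ex T pq.2))).getD k (0, 0)).1 i) =
      PackPerm.getP ((eqs.map fun pq => (codeW (ex T pq.1), codeW (ex T pq.2))).getD k (0, 0)).2
        (F i) := by
    intro k hk i
    rw [List.length_map] at hk
    rw [List.getD_eq_getElem _ _ (by rwa [List.length_map]), List.getElem_map]
    obtain ⟨⟨o1, o2⟩, o3⟩ := oeq _ (List.getElem_mem hk)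
    generalize eqs[k] = pq at o1 o2 o3 ⊢
    have h := congrArg φ (ev_same K o3)
    rw [ev_append, ev_append, map_mul, map_mul, push φ hφ, push φ hφ, eE, ← ev_append,
      ← ev_append] at h
    have hp := pm_eq_of_ev K h
    rw [pm, pm, evalW_append, evalW_append] at hp
    have hi := congrArg Fin.val (Equiv.Perm.congr_fun hp i)
    rw [Equiv.Perm.mul_apply, Equiv.Perm.mul_apply] at hi
    rw [← pm_val o1, hF, hF, ← pm_val o2]
    exact hi
  obtain ⟨all, hcov, hlt, hmem⟩ := cands_complete hF (pm_mem wE) hc plan [] [[]] hplan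
    (by simp) (by simp)
  have h := List.all_eq_true.1 hall _ hmem
  simp only [candOk, Bool.or_eq_true] at h
  rcases h with h | h
  · simp only [List.any_eq_true, List.all_eq_true, Nat.beq_eq, List.mem_map] at h
    obtain ⟨_, ⟨C, hC, rfl⟩, hv⟩ := h
    refine ⟨C, hC, og C hC, ?_⟩
    have hp : pm wE = pm C := by
      refine Equiv.ext fun i => Fin.ext ?_
      rw [pm_val (og C hC), hv (i.val, F i.val) ⟨i.val, hcov _ i.isLt, rfl⟩]
      exact (hF i).symm
    rw [eE]
    exact ev_of_pm K hp
  · exfalso
    simp only [List.any_eq_true, List.mem_range, Bool.not_eq_true'] at h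
    obtain ⟨i, hi, hv⟩ := h
    rw [valOf_map F (hcov i hi), hF ⟨i, hi⟩,
      appW_spec (List.all_eq_true.2 oT) hE hF hcov hlt we
        (fun k hk => Nat.blt_eq.mp (owe k hk)) ⟨i, hi⟩] at hv
    have hw : ev a b c wE = ev a b c (ex (conjExt T wE) we) := by
      rw [← eE, ev_same K osame]
      exact push φ (push_conjExt φ oe hE hφ fun w => by rw [eE]) we
    rw [← pm_eq_of_ev K hw] at hv
    simp at hv

end CfsgLib.HNRec.Hom
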