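import Cfsg.Agent.Lib.HNRec.Hom.Stage

/-!
# The equations of words used by the two charts, checked
-/

set_option autoImplicit false
set_option maxRecDepth 100000

namespace CfsgLib.HNRec.Hom

open CfsgLib.HNxyz CfsgLib.HNIndex

/-- The words moved by the exchange. -/
def srcW : List (List ℕ) := [[0, 0], [4], [0] ++ g1W ++ [1], [0] ++ g2W ++ [1]]

/-- Their images. -/
def dstW : List (List ℕ) := [[4], [0, 0], g1W, g2W]

/-- The first candidate of the first chart. -/
def peW : List ℕ := s1Good.getD 0 []

/-- The targets of the first chart. -/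
def fourSrc : List (List ℕ) := [[0], [4], [2, 2, 2], [0, 0]]

/-- The equations of the first chart. -/
def oneOk : Bool :=
  okW hW && okW dW && okW kapW && okW spW && okW peW && okW s1E && okW (fourImg.getD 0 []) &&
  same (HNIndex.invW hW ++ rW ++ hW) (ex srcW rPush) &&
  same (HNIndex.invW dW ++ ex dstW rPush ++ dW) (ex srcW [1]) &&
  same (rW ++ s1E) (s1E ++ rW) &&
  (List.range 5).all (fun i =>
    same (HNIndex.invW hW ++ kW.getD i [] ++ hW) (ex srcW (kPush.getD i ([], [])).1) &&
    same (HNIndex.invW dW ++ ex dstW (kPush.getD i ([], [])).1 ++ dW)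
      (ex srcW (kPush.getD i ([], [])).2) &&
    same (ex dstW (kPush.getD i ([], [])).2) (kImg.getD i []) &&
    same (HNIndex.invW spW ++ kImg.getD i [] ++ spW) (kImg.getD i [])) &&
  same (spW ++ peW ++ HNIndex.invW spW) (s1Good.getD 1 []) &&
  (List.range 4).all (fun i =>
    same (ex (conjExt kW s1E) (fourW.getD i [])) (fourSrc.getD i []) &&
    same (ex (conjExt kImg peW) (fourW.getD i [])) (fourImg.getD i []))

/-- The equations of the element of order five. -/
def fiveOk : Bool :=
  same (kapW ++ kapW ++ kapW ++ kapW ++ kapW) [] &&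
  same (HNIndex.invW (fourImg.getD 0 []) ++ kapW ++ fourImg.getD 0 [] ++ kapW ++ kapW) [] &&
  same (fourImg.getD 1 [] ++ kapW ++ fourImg.getD 1 [] ++ kapW ++ fourImg.getD 1 [] ++ kapW) []

/-- The equations of the second chart. -/
def twoOk : Bool :=
  okW huW && okW s2E &&
  same (HNIndex.invW huW ++ fourImg.getD 2 [] ++ huW) (ex srcW [1]) &&
  (List.range 4).all (fun i =>
    same (ex (conjExt kW s1E) (lExpr.getD i [])) (lW.getD i []) &&
    same (ex (conjExt kImg peW) (lExpr.getD i [])) (lMid.getD i []) &&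
    same (HNIndex.invW huW ++ lMid.getD i [] ++ huW) (ex srcW (lPush.getD i [])) &&
    same (ex dstW (lPush.getD i [])) (lImg.getD i [])) &&
  same (HNIndex.invW huW ++ kapW ++ huW) (ex srcW kapPush) &&
  same (ex dstW kapPush) kapU &&
  same (s2E ++ [2, 2, 2]) ([2, 2, 2] ++ s2E) &&
  same [2] (ex (conjExt lW s2E) bW) &&
  s2Good.all (fun C => same (ex (conjExt lImg C) bW ++ kapU) (kapU ++ ex (conjExt lImg C) bW))

theorem oneOk_true : oneOk = true := by decide +kernel

theorem fiveOk_true : fiveOk = true := by decide +kernel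

theorem twoOk_true : twoOk = true := by decide +kernel

theorem stageOne_ok : stageOk kW kImg s1E s1Eqs s1We s1Good = true ∧ kImg.map codeW = s1TC ∧
    s1Good.map codeW = s1GC ∧
    s1Eqs.map (fun pq => (codeW (ex kImg pq.1), codeW (ex kImg pq.2))) = s1EC := by
  decide +kernel

theorem stageTwo_ok : stageOk lW lImg s2E s2Eqs s2We s2Good = true ∧ lImg.map codeW = s2TC ∧
    s2Good.map codeW = s2GC ∧
    s2Eqs.map (fun pq => (codeW (ex lImg pq.1), codeW (ex lImg pq.2))) = s2EC := by
  decide +kernel

theorem lengths : kW.length = 5 ∧ kImg.length = 5 ∧ lW.length = 4 ∧ lImg.length = 4 ∧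
    s1Good = [peW, s1Good.getD 1 []] := by
  decide +kernel

end CfsgLib.HNRec.Hom
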